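import Cfsg.Prelude.Def_GeometricClasses
import Mathlib

/-!
# Extraspecial subgroups of order 27 and exponent 3 of `GL₃` (helper12)

Such a subgroup is conjugate to the group generated by `diag(1, ω, ω²)` and the cyclic
permutation matrix; tools to move semisimple elements into its normaliser.
-/

set_option autoImplicit false

namespace Cfsg.Agent.LinGrp12

open Matrix

variable {F : Type*} [Field F]

/-- The permutation matrix of the shift `e i ↦ e (i + 1)`. -/
def shiftMat (F : Type*) [Field F] : Matrix (Fin 3) (Fin 3) F :=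
  Matrix.of fun i j => if i = j + 1 then 1 else 0

/-- A diagonal unit. -/
def dia (d : Fin 3 → F) (hd : ∀ i, d i ≠ 0) : GL (Fin 3) F :=
  GeneralLinearGroup.mkOfDetNeZero (diagonal d)
    (by rw [det_diagonal]; exact Finset.prod_ne_zero_iff.2 fun i _ => hd i)

@[simp] theorem coe_dia (d : Fin 3 → F) (hd : ∀ i, d i ≠ 0) :
    (dia d hd : Matrix (Fin 3) (Fin 3) F) = diagonal d := rfl

theorem det_shiftMat : (shiftMat F).det = 1 := by
  simp [det_fin_three, shiftMat]

/-- The shift as a unit. -/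
def shiftGL (F : Type*) [Field F] : GL (Fin 3) F :=
  GeneralLinearGroup.mkOfDetNeZero (shiftMat F) (by rw [det_shiftMat]; exact one_ne_zero)

@[simp] theorem coe_shiftGL : (shiftGL F : Matrix (Fin 3) (Fin 3) F) = shiftMat F := rfl

/-- The Heisenberg group of order 27 attached to a cube root of unity. -/
def heis (w : Fin 3 → F) (hw : ∀ i, w i ≠ 0) : Subgroup (GL (Fin 3) F) :=
  Subgroup.closure {dia w hw, shiftGL F}

theorem mul_shift_cols (A : Matrix (Fin 3) (Fin 3) F) (i j : Fin 3) :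
    (A * shiftMat F) i j = A i (j + 1) := by
  simp [Matrix.mul_apply, shiftMat]

theorem shift_mul_rows (A : Matrix (Fin 3) (Fin 3) F) (i j : Fin 3) :
    (shiftMat F * A) i j = A (i - 1) j := by
  fin_cases i <;> simp [Matrix.mul_apply, shiftMat, Fin.sum_univ_three] <;> rfl

/-- A finite subgroup is normalised by `h` as soon as conjugation by `h` maps generators into it. -/
theorem mem_normalizer_of_gen {G : Type*} [Group G] [Finite G] {S : Set G} {h : G}
    (hh : ∀ s ∈ S, h * s * h⁻¹ ∈ Subgroup.closure S) :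
    h ∈ Subgroup.normalizer (Subgroup.closure S : Set G) := by
  set H := Subgroup.closure S with hH
  have hle : H.map (MulAut.conj h).toMonoidHom ≤ H := by
    rw [hH, MonoidHom.map_closure, Subgroup.closure_le]
    rintro _ ⟨s, hs, rfl⟩
    exact hh s hs
  have heq : H.map (MulAut.conj h).toMonoidHom = H :=
    Subgroup.eq_of_le_of_card_ge hle
      (le_of_eq (Nat.card_congr (H.equivMapOfInjective (MulAut.conj h).toMonoidHom
        (MulAut.conj h).injective).toEquiv))
  rw [Subgroup.mem_normalizer_iff]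
  intro x
  constructor
  · intro hx
    exact hle ⟨x, hx, rfl⟩
  · intro hx
    obtain ⟨y, hy, hxy⟩ : h * x * h⁻¹ ∈ H.map (MulAut.conj h).toMonoidHom := heq.symm ▸ hx
    have : y = x := (MulAut.conj h).injective hxy
    exact this ▸ hy

/-- Conjugation carries normalisers along. -/
theorem conj_mem_normalizer {G : Type*} [Group G] {R R₀ : Subgroup G} {P h : G}
    (hR : R = R₀.map (MulAut.conj P).toMonoidHom) (hh : h ∈ Subgroup.normalizer (R₀ : Set G)) :
    P * h * P⁻¹ ∈ Subgroup.normalizer (R : Set G) := by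
  have hmem : ∀ x, x ∈ R ↔ P⁻¹ * x * P ∈ R₀ := by
    intro x
    rw [hR]
    constructor
    · rintro ⟨y, hy, rfl⟩
      simpa [mul_assoc] using hy
    · intro hx
      exact ⟨_, hx, by simp [mul_assoc]⟩
  rw [Subgroup.mem_normalizer_iff] at hh ⊢
  intro x
  rw [hmem, hmem, hh (P⁻¹ * x * P)]
  simp [mul_assoc]

variable {ω : F}

theorem primitive_of {F : Type*} [Field F] {ω : F} (h3 : ω ^ 3 = 1) (h1 : ω ≠ 1) :
    IsPrimitiveRoot ω 3 := by
  haveI : Fact (Nat.Prime 3) := ⟨Nat.prime_three⟩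
  rw [← orderOf_eq_prime h3 h1]
  exact IsPrimitiveRoot.orderOf ω

/-- The geometric diagonal `diag(1, ω, ω²)`. -/
def geo (ω : F) : Fin 3 → F := fun i => ω ^ (i : ℕ)

theorem geo_ne (hω : IsPrimitiveRoot ω 3) (i : Fin 3) : geo ω i ≠ 0 :=
  pow_ne_zero _ (hω.ne_zero (by norm_num))

/-- A triple of residues with sum zero is an arithmetic progression. -/
theorem progression : ∀ g : Fin 3 → Fin 3, g 0 + g 1 + g 2 = 0 →
    ∃ u v : Fin 3, ∀ i : Fin 3, g i = u + v * i := by decide

theorem omega_pow_add (hω : ω ^ 3 = 1) (a b : Fin 3) :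
    ω ^ ((a + b : Fin 3) : ℕ) = ω ^ (a : ℕ) * ω ^ (b : ℕ) := by
  rw [← pow_add, Fin.val_add]
  exact (pow_eq_pow_mod _ hω).symm

theorem omega_pow_mul (hω : ω ^ 3 = 1) (a b : Fin 3) :
    ω ^ ((a * b : Fin 3) : ℕ) = (ω ^ (a : ℕ)) ^ (b : ℕ) := by
  rw [← pow_mul, Fin.val_mul]
  exact (pow_eq_pow_mod _ hω).symm

theorem scalar_mem_heis (hω : IsPrimitiveRoot ω 3) :
    ∃ z ∈ heis (geo ω) (geo_ne hω), (z : Matrix (Fin 3) (Fin 3) F) = ω • 1 := by
  have hD : dia (geo ω) (geo_ne hω) ∈ heis (geo ω) (geo_ne hω) :=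
    Subgroup.subset_closure (by simp)
  have hC : shiftGL F ∈ heis (geo ω) (geo_ne hω) := Subgroup.subset_closure (by simp)
  refine ⟨_, mul_mem (mul_mem (mul_mem hD hC) (inv_mem hD)) (inv_mem hC), ?_⟩
  have h : ((dia (geo ω) (geo_ne hω) * shiftGL F : GL (Fin 3) F) : Matrix (Fin 3) (Fin 3) F) =
      ω • ((shiftGL F * dia (geo ω) (geo_ne hω) : GL (Fin 3) F) : Matrix (Fin 3) (Fin 3) F) := by
    have h3 := hω.pow_eq_one
    rw [Units.val_mul, Units.val_mul, coe_shiftGL, coe_dia]
    ext i j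
    fin_cases i <;> fin_cases j <;>
      simp [shiftMat, geo, Matrix.mul_apply, Fin.sum_univ_three] <;>
      first
      | exact h3.symm
      | exact h3
      | linear_combination -h3
      | linear_combination h3
      | linear_combination ω * h3
      | ring1
      | simp [h3]
      | (ring_nf; simp [h3])
      | linear_combination -ω * h3
  rw [mul_assoc (dia (geo ω) (geo_ne hω) * shiftGL F), ← _root_.mul_inv_rev, Units.val_mul, h,
    Matrix.smul_mul, ← Units.val_mul, mul_inv_cancel, Units.val_one]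

/-- Diagonal matrices with cube roots of unity on the diagonal, times scalars, normalise the
Heisenberg group. -/
theorem dia_mem_normalizer [Finite F] (hω : IsPrimitiveRoot ω 3) (d : Fin 3 → F)
    (hd : ∀ i, d i ≠ 0) {e : F} {f : Fin 3 → Fin 3} (hdf : ∀ i, d i = e * ω ^ (f i : ℕ)) :
    dia d hd ∈ Subgroup.normalizer (heis (geo ω) (geo_ne hω) : Set (GL (Fin 3) F)) := by
  have h3 := hω.pow_eq_one
  refine mem_normalizer_of_gen fun s hs => ?_
  rcases hs with rfl | hs
  · have : dia d hd * dia (geo ω) (geo_ne hω) * (dia d hd)⁻¹ = dia (geo ω) (geo_ne hω) := by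
      rw [mul_inv_eq_iff_eq_mul]
      apply Units.ext
      simp only [Units.val_mul, coe_dia, diagonal_mul_diagonal]
      simp_rw [mul_comm]
    rw [this]
    exact Subgroup.subset_closure (by simp)
  rw [Set.mem_singleton_iff] at hs
  subst hs
  obtain ⟨u, v, huv⟩ := progression (fun i => f i - f (i - 1)) (by
    have : ∀ a b c : Fin 3, a - c + (b - a) + (c - b) = 0 := by decide
    exact this (f 0) (f 1) (f 2))
  obtain ⟨z, hz, hzv⟩ := scalar_mem_heis hω
  have hD : dia (geo ω) (geo_ne hω) ∈ heis (geo ω) (geo_ne hω) :=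
    Subgroup.subset_closure (by simp)
  have hC : shiftGL F ∈ heis (geo ω) (geo_ne hω) := Subgroup.subset_closure (by simp)
  have key : dia d hd * shiftGL F * (dia d hd)⁻¹ =
      z ^ (u : ℕ) * dia (geo ω) (geo_ne hω) ^ (v : ℕ) * shiftGL F := by
    rw [mul_inv_eq_iff_eq_mul]
    apply Units.ext
    simp only [Units.val_mul, coe_dia, coe_shiftGL, Units.val_pow_eq_pow_val, hzv, diagonal_pow,
      smul_pow, one_pow, Matrix.smul_mul, one_mul]
    ext i j
    rw [Matrix.diagonal_mul, Matrix.smul_apply, Matrix.mul_diagonal, Matrix.diagonal_mul, smul_eq_mul]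
    by_cases hij : i = j + 1
    · have hji : j = i - 1 := eq_sub_of_add_eq hij.symm
      have hf : f i = u + v * i + f (i - 1) := by rw [← huv i, sub_add_cancel]
      simp only [shiftMat, Matrix.of_apply, if_pos hij, mul_one, hdf, hji, hf, omega_pow_add h3,
        omega_pow_mul h3, Pi.pow_apply, geo, one_mul]
      rw [← pow_mul, ← pow_mul, mul_comm (v : ℕ)]
      ring
    · simp [shiftMat, hij]
  rw [key]
  exact mul_mem (mul_mem (pow_mem hz _) (pow_mem hD _)) hC

/-- The transposition fixing `0`, negated. -/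
def negSwap (F : Type*) [Field F] : Matrix (Fin 3) (Fin 3) F := !![-1, 0, 0; 0, 0, -1; 0, -1, 0]

theorem det_negSwap : (negSwap F).det = 1 := by
  simp [det_fin_three, negSwap]

/-- `negSwap` as a unit. -/
def negSwapGL (F : Type*) [Field F] : GL (Fin 3) F :=
  GeneralLinearGroup.mkOfDetNeZero (negSwap F) (by rw [det_negSwap]; exact one_ne_zero)

theorem negSwap_mem_normalizer [Finite F] (hω : IsPrimitiveRoot ω 3) :
    negSwapGL F ∈ Subgroup.normalizer (heis (geo ω) (geo_ne hω) : Set (GL (Fin 3) F)) := by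
  have h3 := hω.pow_eq_one
  have hD : dia (geo ω) (geo_ne hω) ∈ heis (geo ω) (geo_ne hω) :=
    Subgroup.subset_closure (by simp)
  have hC : shiftGL F ∈ heis (geo ω) (geo_ne hω) := Subgroup.subset_closure (by simp)
  refine mem_normalizer_of_gen fun s hs => ?_
  rcases hs with rfl | hs
  · have : negSwapGL F * dia (geo ω) (geo_ne hω) * (negSwapGL F)⁻¹ =
        dia (geo ω) (geo_ne hω) ^ 2 := by
      rw [mul_inv_eq_iff_eq_mul]
      apply Units.ext
      simp only [Units.val_mul, coe_dia, Units.val_pow_eq_pow_val, diagonal_pow]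
      ext i j
      fin_cases i <;> fin_cases j <;>
        simp [negSwapGL, GeneralLinearGroup.mkOfDetNeZero, negSwap, geo, Matrix.mul_apply,
          Fin.sum_univ_three] <;>
        first
        | linear_combination ω * h3
        | linear_combination -ω * h3
        | linear_combination 2 * ω * h3
        | linear_combination -2 * ω * h3
    rw [this]
    exact pow_mem hD 2
  · rw [Set.mem_singleton_iff] at hs
    subst hs
    have : negSwapGL F * shiftGL F * (negSwapGL F)⁻¹ = shiftGL F ^ 2 := by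
      rw [mul_inv_eq_iff_eq_mul]
      apply Units.ext
      simp only [Units.val_mul, coe_shiftGL, Units.val_pow_eq_pow_val, sq]
      ext i j
      fin_cases i <;> fin_cases j <;>
        simp [negSwapGL, GeneralLinearGroup.mkOfDetNeZero, negSwap, shiftMat, Matrix.mul_apply,
          Fin.sum_univ_three]
    rw [this]
    exact pow_mem hC 2

/-- A unit of finite order prime to the characteristic with all roots of unity available is
diagonalisable. -/
theorem exists_diag {k : ℕ} {ζ : F} (hζ : IsPrimitiveRoot ζ k) (hk : (k : F) ≠ 0)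
    {M : Matrix (Fin 3) (Fin 3) F} (hM : M ^ k = 1) :
    ∃ (Q : GL (Fin 3) F) (f : Fin 3 → Fin k),
      M * (Q : Matrix (Fin 3) (Fin 3) F) =
        (Q : Matrix (Fin 3) (Fin 3) F) * diagonal (fun i => ζ ^ (f i : ℕ)) := by
  classical
  have hk0 : 0 < k := Nat.pos_of_ne_zero (fun h => hk (by simp [h]))
  have hζ0 : ζ ≠ 0 := hζ.ne_zero hk0.ne'
  let e : Fin k → Matrix (Fin 3) (Fin 3) F := fun i =>
    (k : F)⁻¹ • ∑ j ∈ Finset.range k, (ζ⁻¹ ^ (i : ℕ) • M) ^ j
  have hsum : ∑ i, e i = 1 := by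
    simp only [e, ← Finset.smul_sum, _root_.smul_pow]
    rw [Finset.sum_comm, Finset.sum_eq_single 0]
    · simp [Finset.sum_const, Finset.card_univ, ← Nat.cast_smul_eq_nsmul F, smul_smul,
        inv_mul_cancel₀ hk]
    · intro j hj hj0
      rw [← Finset.sum_smul]
      have h1 : ζ⁻¹ ^ j ≠ 1 := by
        rw [inv_pow, Ne, inv_eq_one]
        intro h
        exact hj0 (Nat.eq_zero_of_dvd_of_lt (hζ.dvd_of_pow_eq_one j h) (Finset.mem_range.1 hj))
      have : ∑ i : Fin k, (ζ⁻¹ ^ (i : ℕ)) ^ j = 0 := by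
        simp_rw [← pow_mul, mul_comm _ j, pow_mul]
        rw [Fin.sum_univ_eq_sum_range (fun i => (ζ⁻¹ ^ j) ^ i), geom_sum_eq h1, ← pow_mul, mul_comm,
          pow_mul, inv_pow ζ k, hζ.pow_eq_one, inv_one, one_pow, sub_self, zero_div]
      rw [this, zero_smul]
    · intro h
      exact absurd (Finset.mem_range.2 hk0) h
  have heig : ∀ i : Fin k, M * e i = ζ ^ (i : ℕ) • e i := by
    intro i
    set N := ζ⁻¹ ^ (i : ℕ) • M with hN
    have hNk : N ^ k = 1 := by
      rw [hN, _root_.smul_pow, hM, ← pow_mul, mul_comm, pow_mul, inv_pow ζ k, hζ.pow_eq_one,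
        inv_one, one_pow, one_smul]
    have h1 : (N - 1) * ∑ j ∈ Finset.range k, N ^ j = 0 := by rw [mul_geom_sum, hNk, sub_self]
    rw [sub_mul, one_mul, sub_eq_zero] at h1
    have hMN : M = ζ ^ (i : ℕ) • N := by
      rw [hN, smul_smul, ← mul_pow, mul_inv_cancel₀ hζ0, one_pow, one_smul]
    show M * ((k : F)⁻¹ • ∑ j ∈ Finset.range k, N ^ j) =
      ζ ^ (i : ℕ) • ((k : F)⁻¹ • ∑ j ∈ Finset.range k, N ^ j)
    conv_lhs => rw [hMN]
    rw [Matrix.mul_smul, Matrix.smul_mul, h1, smul_comm]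
  let S : Set (Fin 3 → F) := {v | ∃ i : Fin k, M *ᵥ v = ζ ^ (i : ℕ) • v}
  have hS : Submodule.span F S = ⊤ := by
    rw [eq_top_iff]
    intro v _
    have h1 : v = ∑ i, e i *ᵥ v := by rw [← Matrix.sum_mulVec, hsum, one_mulVec]
    rw [h1]
    refine Submodule.sum_mem _ fun i _ => Submodule.subset_span ⟨i, ?_⟩
    rw [mulVec_mulVec, heig, smul_mulVec]
  obtain ⟨b, hbS, hbspan, hbli⟩ := exists_linearIndependent F S
  let B : Module.Basis b F (Fin 3 → F) :=
    Module.Basis.mk hbli (by rw [Subtype.range_coe, hbspan, hS])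
  haveI : Fintype b := FiniteDimensional.fintypeBasisIndex B
  have hcard : Fintype.card b = 3 := by
    rw [← Module.finrank_eq_card_basis B, Module.finrank_fin_fun]
  let σ : Fin 3 ≃ b := (Fintype.equivFinOfCardEq hcard).symm
  choose f hf using fun j : Fin 3 => hbS (σ j).2
  let Q : Matrix (Fin 3) (Fin 3) F := Matrix.of fun a j => (σ j : Fin 3 → F) a
  have hQ : IsUnit Q := by
    rw [← Matrix.linearIndependent_cols_iff_isUnit]
    exact hbli.comp σ σ.injective
  refine ⟨hQ.unit, f, ?_⟩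
  rw [IsUnit.unit_spec]
  ext a j
  rw [Matrix.mul_diagonal]
  have h1 := congrFun (hf j) a
  rw [Pi.smul_apply, smul_eq_mul, mulVec, dotProduct] at h1
  rw [Matrix.mul_apply]
  show ∑ c, M a c * (σ j : Fin 3 → F) c = (σ j : Fin 3 → F) a * _
  rw [h1, mul_comm]

theorem mem_special_iff (g : GL (Fin 3) F) :
    g ∈ Cfsg.Geo.specialLinear (Fin 3) F ↔ (g : Matrix (Fin 3) (Fin 3) F).det = 1 :=
  ⟨fun h => congrArg Units.val (h : Matrix.GeneralLinearGroup.det g = 1), fun h => Units.ext h⟩

/-- Two units with the same diagonal form are conjugate by an element of determinant one. -/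
theorem exists_sl_conj {x h Q Q' : GL (Fin 3) F} {d : Fin 3 → F}
    (hx : (x : Matrix (Fin 3) (Fin 3) F) * Q = (Q : Matrix (Fin 3) (Fin 3) F) * diagonal d)
    (hh : (h : Matrix (Fin 3) (Fin 3) F) * Q' = (Q' : Matrix (Fin 3) (Fin 3) F) * diagonal d) :
    ∃ g ∈ Cfsg.Geo.specialLinear (Fin 3) F, g⁻¹ * x * g = h := by
  set δ : F := (Q' : Matrix (Fin 3) (Fin 3) F).det / (Q : Matrix (Fin 3) (Fin 3) F).det with hδ
  have hQ : (Q : Matrix (Fin 3) (Fin 3) F).det ≠ 0 :=
    Matrix.GeneralLinearGroup.det Q |>.ne_zero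
  have hQ' : (Q' : Matrix (Fin 3) (Fin 3) F).det ≠ 0 :=
    Matrix.GeneralLinearGroup.det Q' |>.ne_zero
  let c : Fin 3 → F := ![δ, 1, 1]
  have hc : ∀ i, c i ≠ 0 := by
    intro i
    fin_cases i <;> simp [c, hδ, hQ, hQ']
  refine ⟨Q * dia c hc * Q'⁻¹, ?_, ?_⟩
  · rw [mem_special_iff, Units.val_mul, Units.val_mul, det_mul, det_mul, coe_dia, det_diagonal,
      Fin.prod_univ_three]
    have : ((Q'⁻¹ : GL (Fin 3) F) : Matrix (Fin 3) (Fin 3) F).det =
        ((Q' : Matrix (Fin 3) (Fin 3) F).det)⁻¹ := by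
      refine eq_inv_of_mul_eq_one_left ?_
      rw [← det_mul, ← Units.val_mul, inv_mul_cancel, Units.val_one, det_one]
    rw [this]
    simp [c, hδ]
    field_simp
  · have h1 : x * (Q * dia c hc) = (Q * dia c hc) * (Q'⁻¹ * h * Q') := by
      have h2 : ((Q'⁻¹ * h * Q' : GL (Fin 3) F) : Matrix (Fin 3) (Fin 3) F) = diagonal d := by
        rw [mul_assoc, Units.val_mul, Units.val_mul, hh, ← mul_assoc, ← Units.val_mul,
          inv_mul_cancel, Units.val_one, one_mul]
      apply Units.ext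
      rw [Units.val_mul x, Units.val_mul (Q * dia c hc), h2, Units.val_mul Q, coe_dia, ← mul_assoc,
        hx, mul_assoc, mul_assoc, diagonal_mul_diagonal, diagonal_mul_diagonal]
      simp_rw [mul_comm]
    calc (Q * dia c hc * Q'⁻¹)⁻¹ * x * (Q * dia c hc * Q'⁻¹)
        = Q' * ((Q * dia c hc)⁻¹ * (x * (Q * dia c hc))) * Q'⁻¹ := by group
      _ = h := by rw [h1]; group

/-- The normal form of an extraspecial group of order 27 and exponent 3. -/
theorem exists_normal_form [Finite F] (R : Subgroup (GL (Fin 3) F)) (hR : Nat.card R = 27)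
    (hRe : Monoid.exponent R = 3) (hRna : ¬ IsMulCommutative R) (h3F : (3 : F) ≠ 0)
    {η : F} (hη : IsPrimitiveRoot η 3) :
    ∃ (ω : F) (hω : IsPrimitiveRoot ω 3) (P : GL (Fin 3) F),
      R = (heis (geo ω) (geo_ne hω)).map (MulAut.conj P).toMonoidHom := by
  classical
  haveI : Fact (Nat.Prime 3) := ⟨Nat.prime_three⟩
  have hexp : ∀ g ∈ R, g ^ 3 = 1 := fun g hg => by
    have := Monoid.pow_exponent_eq_one (⟨g, hg⟩ : R)
    rw [hRe] at this
    simpa using congrArg Subtype.val this
  have hne : ∃ a ∈ R, ∃ b ∈ R, a * b ≠ b * a := by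
    by_contra hcon
    push Not at hcon
    exact hRna ⟨⟨fun a b => Subtype.ext (hcon a a.2 b b.2)⟩⟩
  obtain ⟨a, ha, b, hb, hab⟩ := hne
  -- the group is generated by `a` and `b`
  have hgen : Subgroup.closure {a, b} = R := by
    have hle : Subgroup.closure {a, b} ≤ R := (Subgroup.closure_le _).2 (by
      rintro _ (rfl | rfl) <;> assumption)
    obtain ⟨i, hi, hci⟩ : ∃ i ≤ 3, Nat.card (Subgroup.closure {a, b}) = 3 ^ i :=
      (Nat.dvd_prime_pow Nat.prime_three).1 (by
        have := Subgroup.card_dvd_of_le hle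
        rwa [hR] at this)
    refine Subgroup.eq_of_le_of_card_ge hle ?_
    rw [hR, hci]
    by_contra hlt
    have hi2 : i ≤ 2 := by
      by_contra h
      have : i = 3 := by omega
      subst this
      norm_num at hlt
    have hcomm : IsMulCommutative (Subgroup.closure {a, b}) := by
      interval_cases i
      · haveI : Subsingleton (Subgroup.closure {a, b}) :=
          (Nat.card_eq_one_iff_unique.1 hci).1
        exact ⟨⟨fun _ _ => Subsingleton.elim _ _⟩⟩
      · haveI : IsCyclic (Subgroup.closure {a, b}) :=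
          isCyclic_of_prime_card (p := 3) (by rw [hci, pow_one])
        exact ⟨⟨fun x y => IsCyclic.commGroup.mul_comm x y⟩⟩
      · exact ⟨⟨fun x y => IsPGroup.commutative_of_card_eq_prime_sq (p := 3) hci x y⟩⟩
    exact hab (congrArg Subtype.val (hcomm.1.1 ⟨a, Subgroup.subset_closure (by simp)⟩
      ⟨b, Subgroup.subset_closure (by simp)⟩))
  -- the commutator is central
  set z := b * a * b⁻¹ * a⁻¹ with hz
  have hzR : z ∈ R := mul_mem (mul_mem (mul_mem hb ha) (inv_mem hb)) (inv_mem ha)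
  have hz1 : z ≠ 1 := by
    intro h
    rw [hz, mul_inv_eq_one, mul_inv_eq_iff_eq_mul] at h
    exact hab h.symm
  have hzc : ∀ g ∈ R, g * z = z * g := by
    intro g hg
    have hRp : IsPGroup 3 R := IsPGroup.of_card (n := 3) (by rw [hR]; norm_num)
    have hmem : (⟨z, hzR⟩ : R) ∈ Subgroup.center R := by
      haveI : Nontrivial R := Finite.one_lt_card_iff_nontrivial.1 (by rw [hR]; norm_num)
      haveI := hRp.center_nontrivial
      obtain ⟨n, hn⟩ := (hRp.to_subgroup (Subgroup.center R)).exists_card_eq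
      have hn0 : n ≠ 0 := by
        rintro rfl
        exact (Finite.one_lt_card (α := Subgroup.center R)).ne' (by simpa using hn)
      have hidx := Subgroup.card_mul_index (Subgroup.center R)
      rw [hR, hn] at hidx
      have h9 : Nat.card (R ⧸ Subgroup.center R) ∣ 9 := by
        have : 3 ^ n * (Subgroup.center R).index ∣ 27 := by rw [hidx]
        have h3 : 3 * (Subgroup.center R).index ∣ 3 * 9 :=
          dvd_trans (mul_dvd_mul_right (dvd_pow_self 3 hn0) _) this
        exact Nat.dvd_of_mul_dvd_mul_left (by norm_num) h3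
      obtain ⟨j, hj, hcj⟩ := (Nat.dvd_prime_pow Nat.prime_three).1
        (show Nat.card (R ⧸ Subgroup.center R) ∣ 3 ^ 2 from by norm_num; exact h9)
      have hcom : ∀ x y : R ⧸ Subgroup.center R, x * y = y * x := by
        interval_cases j
        · haveI : Subsingleton (R ⧸ Subgroup.center R) := (Nat.card_eq_one_iff_unique.1 hcj).1
          exact fun x y => Subsingleton.elim _ _
        · haveI : IsCyclic (R ⧸ Subgroup.center R) :=
            isCyclic_of_prime_card (p := 3) (by rw [hcj, pow_one])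
          exact fun x y => IsCyclic.commGroup.mul_comm x y
        · exact fun x y => IsPGroup.commutative_of_card_eq_prime_sq (p := 3) hcj x y
      have he : ((⟨b, hb⟩ * ⟨a, ha⟩ * ⟨b, hb⟩⁻¹ * ⟨a, ha⟩⁻¹ : R) : R ⧸ Subgroup.center R) = 1 := by
        simp only [QuotientGroup.mk_mul, QuotientGroup.mk_inv]
        rw [hcom ((⟨b, hb⟩ : R) : R ⧸ Subgroup.center R) ((⟨a, ha⟩ : R) : R ⧸ Subgroup.center R)]
        group
      exact (QuotientGroup.eq_one_iff _).1 he
    exact congrArg Subtype.val (Subgroup.mem_center_iff.1 hmem ⟨g, hg⟩)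
  -- eigenvalues are cube roots of unity
  have hdiag : ∀ g ∈ R, ∃ (Q : GL (Fin 3) F) (f : Fin 3 → Fin 3),
      (g : Matrix (Fin 3) (Fin 3) F) * (Q : Matrix (Fin 3) (Fin 3) F) =
        (Q : Matrix (Fin 3) (Fin 3) F) * diagonal (fun i => η ^ (f i : ℕ)) := fun g hg =>
    exists_diag hη h3F (by rw [← Units.val_pow_eq_pow_val, hexp g hg, Units.val_one])
  -- an eigenvalue of `z` different from one
  obtain ⟨Qz, fz, hQz⟩ := hdiag z hzR
  obtain ⟨i₀, hi₀⟩ : ∃ i, η ^ (fz i : ℕ) ≠ 1 := by
    by_contra hcon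
    push Not at hcon
    refine hz1 (Units.ext ?_)
    simp only [hcon, diagonal_one, mul_one] at hQz
    have := congrArg (fun A => A * ((Qz⁻¹ : GL (Fin 3) F) : Matrix (Fin 3) (Fin 3) F)) hQz
    simpa [mul_assoc] using this
  set ω := η ^ (fz i₀ : ℕ) with hωdef
  have hω : IsPrimitiveRoot ω 3 := primitive_of (by
    rw [hωdef, ← pow_mul, mul_comm, pow_mul, hη.pow_eq_one, one_pow]) hi₀
  have hω3 := hω.pow_eq_one
  have hω0 : ω ≠ 0 := hω.ne_zero (by norm_num)
  -- a common eigenvector of `z` and `a`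
  have hE : ∃ v : Fin 3 → F, v ≠ 0 ∧ (z : Matrix (Fin 3) (Fin 3) F) *ᵥ v = ω • v ∧
      ∃ k : ℕ, (a : Matrix (Fin 3) (Fin 3) F) *ᵥ v = η ^ k • v := by
    obtain ⟨Qa, fa, hQa⟩ := hdiag a ha
    set u : Fin 3 → F := fun r => (Qz : Matrix (Fin 3) (Fin 3) F) r i₀ with hu
    have hzu : (z : Matrix (Fin 3) (Fin 3) F) *ᵥ u = ω • u := by
      ext r
      have := congrFun (congrFun hQz r) i₀
      rw [Matrix.mul_diagonal, Matrix.mul_apply] at this
      simp only [hu, mulVec, dotProduct, Pi.smul_apply, smul_eq_mul, hωdef]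
      rw [this, mul_comm]
    have hu0 : u ≠ 0 := by
      intro h
      refine (Matrix.GeneralLinearGroup.det Qz).ne_zero ?_
      exact Matrix.det_eq_zero_of_column_eq_zero i₀ (fun r => congrFun h r)
    -- decompose `u` along the eigenvectors of `a`
    set c : Fin 3 → F := ((Qa⁻¹ : GL (Fin 3) F) : Matrix (Fin 3) (Fin 3) F) *ᵥ u with hc
    obtain ⟨j, hj⟩ : ∃ j, c j ≠ 0 := by
      by_contra hcon
      push Not at hcon
      refine hu0 ?_
      have h1 : (Qa : Matrix (Fin 3) (Fin 3) F) *ᵥ c = u := by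
        rw [hc, mulVec_mulVec, ← Units.val_mul, mul_inv_cancel, Units.val_one, one_mulVec]
      rw [← h1, show c = 0 from funext hcon, mulVec_zero]
    set w : Fin 3 → F := fun r => if η ^ (fa r : ℕ) = η ^ (fa j : ℕ) then c r else 0 with hw
    refine ⟨(Qa : Matrix (Fin 3) (Fin 3) F) *ᵥ w, ?_, ?_, fa j, ?_⟩
    · intro h
      have h1 := congrArg (fun x => ((Qa⁻¹ : GL (Fin 3) F) : Matrix (Fin 3) (Fin 3) F) *ᵥ x) h
      rw [mulVec_mulVec, ← Units.val_mul, inv_mul_cancel, Units.val_one, one_mulVec, mulVec_zero]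
        at h1
      exact hj (by simpa [hw] using congrFun h1 j)
    · set K : Matrix (Fin 3) (Fin 3) F := ((Qa⁻¹ * z * Qa : GL (Fin 3) F) :
        Matrix (Fin 3) (Fin 3) F) with hK
      set Da := diagonal (fun i => η ^ (fa i : ℕ)) with hDa
      have hcomm : K * Da = Da * K := by
        have hDa' : Da = ((Qa⁻¹ * a * Qa : GL (Fin 3) F) : Matrix (Fin 3) (Fin 3) F) := by
          rw [mul_assoc, Units.val_mul, Units.val_mul, hQa, ← mul_assoc, ← Units.val_mul,
            inv_mul_cancel, Units.val_one, one_mul]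
        rw [hK, hDa', ← Units.val_mul, ← Units.val_mul]
        congr 1
        calc Qa⁻¹ * z * Qa * (Qa⁻¹ * a * Qa) = Qa⁻¹ * (z * a) * Qa := by group
          _ = Qa⁻¹ * (a * z) * Qa := by rw [hzc a ha]
          _ = _ := by group
      have hKc : K *ᵥ c = ω • c := by
        rw [hK, hc, mulVec_mulVec, ← Units.val_mul,
          show Qa⁻¹ * z * Qa * Qa⁻¹ = Qa⁻¹ * z by group, Units.val_mul, ← mulVec_mulVec, hzu,
          mulVec_smul]
      have hKw : K *ᵥ w = ω • w := by
        ext r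
        have hrc := congrFun hKc r
        simp only [mulVec, dotProduct, Pi.smul_apply, smul_eq_mul] at hrc ⊢
        have hoff : ∀ s, η ^ (fa r : ℕ) ≠ η ^ (fa s : ℕ) → K r s = 0 := by
          intro s hs
          have h1 := congrFun (congrFun hcomm r) s
          rw [hDa, Matrix.mul_diagonal, Matrix.diagonal_mul] at h1
          by_contra h
          exact hs (mul_right_cancel₀ h (h1.symm.trans (mul_comm _ _)))
        by_cases hr : η ^ (fa r : ℕ) = η ^ (fa j : ℕ)
        · rw [hw]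
          simp only [if_pos hr]
          rw [← hrc]
          refine Finset.sum_congr rfl fun s _ => ?_
          by_cases hs : η ^ (fa s : ℕ) = η ^ (fa j : ℕ)
          · rw [if_pos hs]
          · rw [if_neg hs, mul_zero, hoff s (fun h => hs (h.symm.trans hr)), zero_mul]
        · rw [hw]
          simp only [if_neg hr, mul_zero]
          refine Finset.sum_eq_zero fun s _ => ?_
          by_cases hs : η ^ (fa s : ℕ) = η ^ (fa j : ℕ)
          · rw [hoff s (fun h => hr (h.trans hs)), zero_mul]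
          · rw [if_neg hs, mul_zero]
      rw [mulVec_mulVec, ← Units.val_mul, show z * Qa = Qa * (Qa⁻¹ * z * Qa) by group,
        Units.val_mul, ← mulVec_mulVec, ← hK, hKw, mulVec_smul]
    · rw [mulVec_mulVec, hQa, ← mulVec_mulVec]
      rw [← mulVec_smul]
      congr 1
      ext r
      rw [mulVec_diagonal, Pi.smul_apply, smul_eq_mul, hw]
      by_cases hr : η ^ (fa r : ℕ) = η ^ (fa j : ℕ)
      · simp only [if_pos hr, hr]
      · simp only [if_neg hr, mul_zero]
  obtain ⟨v, hv0, hzv, k, hav⟩ := hE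
  -- replace `a` by a power of `z` times `a` fixing `v`
  obtain ⟨m, hm⟩ : ∃ m : ℕ, η ^ k * ω ^ m = 1 := by
    obtain ⟨i, -, hi⟩ := hω.eq_pow_of_pow_eq_one (ξ := η ^ k)
      (by rw [← pow_mul, mul_comm, pow_mul, hη.pow_eq_one, one_pow])
    exact ⟨2 * i, by rw [← hi, ← pow_add, show i + 2 * i = 3 * i by ring, pow_mul, hω3, one_pow]⟩
  set x := z ^ m * a with hx
  have hxR : x ∈ R := mul_mem (pow_mem hzR m) ha
  have hzm : ((z ^ m : GL (Fin 3) F) : Matrix (Fin 3) (Fin 3) F) *ᵥ v = ω ^ m • v := by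
    clear hm hx hxR x
    induction m with
    | zero => simp
    | succ m ih =>
      rw [pow_succ', Units.val_mul, ← mulVec_mulVec, ih, mulVec_smul, hzv, smul_smul, ← pow_succ]
  have hxv : (x : Matrix (Fin 3) (Fin 3) F) *ᵥ v = v := by
    rw [hx, Units.val_mul, ← mulVec_mulVec, hav, mulVec_smul, hzm, smul_smul, hm, one_smul]
  have hzx : b * x = z * (x * b) := by
    have hzb : Commute b z := hzc b hb
    calc b * (z ^ m * a) = z ^ m * (b * a) := by rw [← mul_assoc, (hzb.pow_right m).eq, mul_assoc]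
      _ = z ^ m * (z * (a * b)) := by rw [hz]; group
      _ = z * (z ^ m * a * b) := by
          rw [← mul_assoc, ← pow_succ, pow_succ']
          group
  set T : Matrix (Fin 3) (Fin 3) F := (b : Matrix (Fin 3) (Fin 3) F) with hT
  have hstep : ∀ (t : F) (u : Fin 3 → F), (x : Matrix (Fin 3) (Fin 3) F) *ᵥ u = t • u →
      (z : Matrix (Fin 3) (Fin 3) F) *ᵥ u = ω • u →
      (x : Matrix (Fin 3) (Fin 3) F) *ᵥ (T *ᵥ u) = (t * ω ^ 2) • (T *ᵥ u) ∧
        (z : Matrix (Fin 3) (Fin 3) F) *ᵥ (T *ᵥ u) = ω • (T *ᵥ u) := by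
    intro t u hxu hzu
    have h2 : (z : Matrix (Fin 3) (Fin 3) F) *ᵥ (T *ᵥ u) = ω • (T *ᵥ u) := by
      rw [mulVec_mulVec, hT, ← Units.val_mul, ← hzc b hb, Units.val_mul, ← mulVec_mulVec, hzu,
        mulVec_smul]
    refine ⟨?_, h2⟩
    have h1 : T *ᵥ ((x : Matrix (Fin 3) (Fin 3) F) *ᵥ u) =
        (z : Matrix (Fin 3) (Fin 3) F) *ᵥ ((x : Matrix (Fin 3) (Fin 3) F) *ᵥ (T *ᵥ u)) := by
      rw [mulVec_mulVec, mulVec_mulVec, mulVec_mulVec, hT, ← Units.val_mul, ← Units.val_mul,
        ← Units.val_mul, hzx, ← mul_assoc z]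
    have h3 : (z : Matrix (Fin 3) (Fin 3) F) *ᵥ ((x : Matrix (Fin 3) (Fin 3) F) *ᵥ (T *ᵥ u)) =
        ω • ((x : Matrix (Fin 3) (Fin 3) F) *ᵥ (T *ᵥ u)) := by
      rw [mulVec_mulVec, ← Units.val_mul, ← hzc x hxR, Units.val_mul, ← mulVec_mulVec, h2,
        mulVec_smul]
    rw [h3, hxu, mulVec_smul] at h1
    rw [mul_comm t, ← smul_smul, h1, smul_smul, ← pow_succ, hω3, one_smul]
  obtain ⟨hx1, hz1'⟩ := hstep 1 v (by rw [one_smul]; exact hxv) hzv
  rw [one_mul] at hx1
  obtain ⟨hx2, hz2'⟩ := hstep _ _ hx1 hz1'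
  have h24 : ω ^ 2 * ω ^ 2 = ω := by linear_combination ω * hω3
  rw [h24] at hx2
  -- reorder: eigenvalues `1, ω, ω²`
  set y := b ^ 2 with hy
  have hyR : y ∈ R := pow_mem hb 2
  have hyv : (y : Matrix (Fin 3) (Fin 3) F) *ᵥ v = T *ᵥ (T *ᵥ v) := by
    rw [hy, Units.val_pow_eq_pow_val, sq, ← mulVec_mulVec]
  have hb3 : T ^ 3 = 1 := by
    rw [hT, ← Units.val_pow_eq_pow_val, hexp b hb, Units.val_one]
  have hyy : ∀ u : Fin 3 → F, (y : Matrix (Fin 3) (Fin 3) F) *ᵥ (T *ᵥ u) = u := by
    intro u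
    rw [mulVec_mulVec, hy, Units.val_pow_eq_pow_val, ← hT, ← pow_succ, hb3, one_mulVec]
  let col : Fin 3 → (Fin 3 → F) := ![v, T *ᵥ (T *ᵥ v), T *ᵥ v]
  let Pm : Matrix (Fin 3) (Fin 3) F := Matrix.of fun r j => col j r
  have hcol : ∀ j : Fin 3, (x : Matrix (Fin 3) (Fin 3) F) *ᵥ col j = ω ^ (j : ℕ) • col j := by
    intro j
    fin_cases j <;> simp [col, -mulVec_mulVec]
    · exact hxv
    · exact hx2
    · exact hx1
  have hcolne : ∀ j, col j ≠ 0 := by
    have hinj : ∀ u : Fin 3 → F, T *ᵥ u = 0 → u = 0 := fun u h => by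
      rw [← hyy u, h, mulVec_zero]
    intro j h
    fin_cases j <;> simp [col, -mulVec_mulVec] at h
    · exact hv0 h
    · exact hv0 (hinj _ (hinj _ h))
    · exact hv0 (hinj _ h)
  have hli : LinearIndependent F col := by
    refine Module.End.eigenvectors_linearIndependent' (Matrix.toLin' (x : Matrix (Fin 3) (Fin 3) F))
      (fun i : Fin 3 => ω ^ (i : ℕ)) (fun i j hij => Fin.ext (hω.pow_inj i.2 j.2 hij)) _
      fun i => ⟨?_, hcolne i⟩
    rw [Module.End.mem_eigenspace_iff, Matrix.toLin'_apply]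
    exact hcol i
  have hPu : IsUnit Pm := by
    rw [← Matrix.linearIndependent_cols_iff_isUnit]
    exact hli
  have hyc : ∀ j : Fin 3, (y : Matrix (Fin 3) (Fin 3) F) *ᵥ col j = col (j + 1) := by
    intro j
    fin_cases j <;> simp [col, -mulVec_mulVec]
    · exact hyv
    · exact hyy _
    · exact hyy _
  refine ⟨ω, hω, hPu.unit, ?_⟩
  have hgen' : Subgroup.closure {x, y} = R := by
    refine le_antisymm ((Subgroup.closure_le _).2 (by rintro _ (rfl | rfl) <;> assumption)) ?_
    have hbm : b ∈ Subgroup.closure {x, y} := by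
      have h1 : y * y = b := by
        rw [hy, ← pow_add, show 2 + 2 = 3 + 1 from rfl, pow_succ, hexp b hb, one_mul]
      rw [← h1]
      exact mul_mem (Subgroup.subset_closure (by simp)) (Subgroup.subset_closure (by simp))
    have hxm : x ∈ Subgroup.closure {x, y} := Subgroup.subset_closure (by simp)
    have hzm' : z ∈ Subgroup.closure {x, y} := by
      have h1 : z = b * x * b⁻¹ * x⁻¹ := by rw [hzx]; group
      rw [h1]
      exact mul_mem (mul_mem (mul_mem hbm hxm) (inv_mem hbm)) (inv_mem hxm)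
    have ham : a ∈ Subgroup.closure {x, y} := by
      have h1 : (z ^ m)⁻¹ * x = a := by rw [hx]; group
      rw [← h1]
      exact mul_mem (inv_mem (pow_mem hzm' m)) hxm
    calc R = Subgroup.closure {a, b} := hgen.symm
      _ ≤ _ := (Subgroup.closure_le _).2 (by rintro _ (rfl | rfl) <;> assumption)
  rw [← hgen', heis, MonoidHom.map_closure, Set.image_pair]
  have hx' : MulAut.conj hPu.unit (dia (geo ω) (geo_ne hω)) = x := by
    rw [MulAut.conj_apply, mul_inv_eq_iff_eq_mul]
    apply Units.ext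
    rw [Units.val_mul, Units.val_mul, IsUnit.unit_spec, coe_dia]
    ext r j
    have h1 := congrFun (hcol j) r
    simp only [mulVec, dotProduct, Pi.smul_apply, smul_eq_mul] at h1
    rw [Matrix.mul_diagonal, Matrix.mul_apply]
    simp only [Pm, Matrix.of_apply, geo]
    rw [h1, mul_comm]
  have hy' : MulAut.conj hPu.unit (shiftGL F) = y := by
    rw [MulAut.conj_apply, mul_inv_eq_iff_eq_mul]
    apply Units.ext
    rw [Units.val_mul, Units.val_mul, IsUnit.unit_spec, coe_shiftGL]
    ext r j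
    have h1 := congrFun (hyc j) r
    simp only [mulVec, dotProduct] at h1
    rw [mul_shift_cols, Matrix.mul_apply]
    simp only [Pm, Matrix.of_apply]
    rw [h1]
  show Subgroup.closure {x, y} = Subgroup.closure {MulAut.conj hPu.unit _, MulAut.conj hPu.unit _}
  rw [hx', hy']

theorem commute_heis_scalar (hω : IsPrimitiveRoot ω 3) {g : Matrix (Fin 3) (Fin 3) F}
    (hD : g * diagonal (geo ω) = diagonal (geo ω) * g)
    (hC : g * shiftMat F = shiftMat F * g) : g = g 0 0 • 1 := by
  have hoff : ∀ i j : Fin 3, i ≠ j → g i j = 0 := by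
    intro i j hij
    have h := congrFun (congrFun hD i) j
    rw [Matrix.mul_diagonal, Matrix.diagonal_mul] at h
    by_contra hg
    refine hij (Fin.ext (hω.pow_inj i.2 j.2 ?_))
    exact (mul_right_cancel₀ hg ((mul_comm _ _).trans h)).symm
  have hsh : ∀ i j : Fin 3, g i (j + 1) = g (i - 1) j := by
    intro i j
    rw [← mul_shift_cols g, hC, shift_mul_rows]
  have h1 : g 1 1 = g 0 0 := hsh 1 0
  have h2 : g 2 2 = g 1 1 := hsh 2 1
  ext i j
  fin_cases i <;> fin_cases j <;> simp [hoff, h1, h2]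

end Cfsg.Agent.LinGrp12
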