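import Cfsg.Agent.LinGrp12.HeisThree

/-!
# Prime order elements in the normaliser of an extraspecial group of order 27 (helper12)
-/

set_option autoImplicit false

namespace Cfsg.Agent.LinGrp12

open Matrix

variable {F : Type*} [Field F]

/-- Permute the columns of a diagonalising matrix. -/
theorem diag_perm {M : Matrix (Fin 3) (Fin 3) F} {Q : GL (Fin 3) F} {d : Fin 3 → F}
    (h : M * (Q : Matrix (Fin 3) (Fin 3) F) = (Q : Matrix (Fin 3) (Fin 3) F) * diagonal d)
    (σ : Equiv.Perm (Fin 3)) :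
    ∃ Q' : GL (Fin 3) F,
      M * (Q' : Matrix (Fin 3) (Fin 3) F) =
        (Q' : Matrix (Fin 3) (Fin 3) F) * diagonal (fun i => d (σ i)) := by
  refine ⟨GeneralLinearGroup.mkOfDetNeZero ((Q : Matrix (Fin 3) (Fin 3) F).submatrix id σ) ?_, ?_⟩
  · rw [det_permute']
    refine mul_ne_zero ?_ (Matrix.GeneralLinearGroup.det Q).ne_zero
    rcases Int.units_eq_one_or (Equiv.Perm.sign σ) with h1 | h1 <;> simp [h1]
  · show M * (Q : Matrix (Fin 3) (Fin 3) F).submatrix id σ = _
    ext i j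
    have h1 := congrFun (congrFun h i) (σ j)
    rw [Matrix.mul_diagonal, Matrix.mul_apply] at h1
    rw [Matrix.mul_diagonal, Matrix.mul_apply]
    exact h1

/-- A scalar unit normalises everything. -/
theorem scalar_mem_normalizer {h : GL (Fin 3) F} {c : F}
    (hc : (h : Matrix (Fin 3) (Fin 3) F) = c • 1) (R : Subgroup (GL (Fin 3) F)) :
    h ∈ Subgroup.normalizer (R : Set (GL (Fin 3) F)) := by
  have hcomm : ∀ x : GL (Fin 3) F, h * x * h⁻¹ = x := fun x => by
    rw [mul_inv_eq_iff_eq_mul]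
    apply Units.ext
    rw [Units.val_mul, Units.val_mul, hc, Matrix.smul_mul, Matrix.mul_smul, one_mul, mul_one]
  rw [Subgroup.mem_normalizer_iff]
  intro x
  rw [hcomm]

theorem coe_map_conj (P : GL (Fin 3) F) {g h : GL (Fin 3) F}
    {d : Fin 3 → F} {Q : GL (Fin 3) F}
    (hh : (h : Matrix (Fin 3) (Fin 3) F) * Q = (Q : Matrix (Fin 3) (Fin 3) F) * diagonal d)
    (hg : g = P * h * P⁻¹) :
    (g : Matrix (Fin 3) (Fin 3) F) * ((P * Q : GL (Fin 3) F) : Matrix (Fin 3) (Fin 3) F) =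
      ((P * Q : GL (Fin 3) F) : Matrix (Fin 3) (Fin 3) F) * diagonal d := by
  rw [← Units.val_mul g, hg, show P * h * P⁻¹ * (P * Q) = P * (h * Q) by group, Units.val_mul,
    Units.val_mul h, hh, ← mul_assoc, ← Units.val_mul]

theorem two_diag : ∀ f : Fin 3 → Fin 2, (f 0 + f 1 + f 2 = 0) →
    (∀ i, f i = 0) ∨ ∃ σ : Equiv.Perm (Fin 3), ∀ i, f (σ i) = ![1, 1, 0] i := by decide

/-- The involutions of determinant one, up to scalars, have a conjugate in the normaliser. -/
theorem exists_diag_two [Finite F] {ω : F} (hω : IsPrimitiveRoot ω 3) (h2 : (2 : F) ≠ 0)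
    {R : Subgroup (GL (Fin 3) F)} {P : GL (Fin 3) F}
    (hP : R = (heis (geo ω) (geo_ne hω)).map (MulAut.conj P).toMonoidHom)
    {x : GL (Fin 3) F} (hdet : (x : Matrix (Fin 3) (Fin 3) F).det = 1) {z : F}
    (hz : ((x ^ 2 : GL (Fin 3) F) : Matrix (Fin 3) (Fin 3) F) = z • 1)
    (hns : ∀ c : F, (x : Matrix (Fin 3) (Fin 3) F) ≠ c • 1) :
    ∃ (h Q Q' : GL (Fin 3) F) (d : Fin 3 → F),
      h ∈ Subgroup.normalizer (R : Set (GL (Fin 3) F)) ∧
      (x : Matrix (Fin 3) (Fin 3) F) * Q = (Q : Matrix (Fin 3) (Fin 3) F) * diagonal d ∧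
      (h : Matrix (Fin 3) (Fin 3) F) * Q' = (Q' : Matrix (Fin 3) (Fin 3) F) * diagonal d := by
  rw [Units.val_pow_eq_pow_val] at hz
  have hz3 : z ^ 3 = 1 := by
    have := congrArg Matrix.det hz
    rw [det_pow, hdet, one_pow, det_smul, det_one, mul_one, Fintype.card_fin] at this
    exact this.symm
  have hz0 : z ≠ 0 := fun h => by simp [h] at hz3
  have hm : IsPrimitiveRoot (-1 : F) 2 := by
    rw [IsPrimitiveRoot.iff_orderOf]
    refine orderOf_eq_prime (by ring) fun h => h2 ?_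
    linear_combination -h
  obtain ⟨Q, f, hQ⟩ := exists_diag hm (by exact_mod_cast h2)
    (M := z • (x : Matrix (Fin 3) (Fin 3) F))
    (by rw [_root_.smul_pow, hz, smul_smul, ← pow_succ, hz3, one_smul])
  have hQd : (Q : Matrix (Fin 3) (Fin 3) F).det ≠ 0 :=
    (Matrix.GeneralLinearGroup.det Q).ne_zero
  have hsum : f 0 + f 1 + f 2 = 0 := by
    have h1 := congrArg Matrix.det hQ
    rw [det_mul, det_mul, det_smul, hdet, mul_one, Fintype.card_fin, hz3, one_mul, det_diagonal,
      Fin.prod_univ_three, ← pow_add, ← pow_add] at h1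
    have h3 : (-1 : F) ^ ((f 0 : ℕ) + f 1 + f 2) = 1 :=
      mul_left_cancel₀ hQd (by rw [mul_one]; exact h1.symm)
    have h4 := hm.dvd_of_pow_eq_one _ h3
    apply Fin.ext
    simp only [Fin.val_add, Fin.val_zero]
    omega
  rcases two_diag f hsum with h0 | ⟨σ, hσ⟩
  · exfalso
    simp only [h0, Fin.val_zero, pow_zero, diagonal_one, mul_one] at hQ
    refine hns z⁻¹ ?_
    have h1 : z • (x : Matrix (Fin 3) (Fin 3) F) = 1 := by
      have := congrArg (fun A => A * ((Q⁻¹ : GL (Fin 3) F) : Matrix (Fin 3) (Fin 3) F)) hQ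
      simpa [mul_assoc] using this
    rw [← h1, smul_smul, inv_mul_cancel₀ hz0, one_smul]
  obtain ⟨Q₁, hQ₁⟩ := diag_perm hQ σ
  let c : GL (Fin 3) F := dia (fun _ => z⁻¹) fun _ => inv_ne_zero hz0
  have hc : (c : Matrix (Fin 3) (Fin 3) F) = z⁻¹ • 1 := by
    rw [coe_dia, smul_one_eq_diagonal]
  have hQ2d : (!![1, 0, 0; 0, 1, 1; 0, 1, -1] : Matrix (Fin 3) (Fin 3) F).det ≠ 0 := by
    simp [det_fin_three]
    intro h
    exact h2 (by linear_combination -h)
  let Q₂ : GL (Fin 3) F := GeneralLinearGroup.mkOfDetNeZero _ hQ2d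
  refine ⟨P * (c * negSwapGL F) * P⁻¹, Q₁, P * Q₂,
    fun i => z⁻¹ * (![-1, -1, 1] : Fin 3 → F) i, ?_, ?_, ?_⟩
  · exact conj_mem_normalizer hP
      (mul_mem (scalar_mem_normalizer hc _) (negSwap_mem_normalizer hω))
  · have hd : (fun i => (-1 : F) ^ (f (σ i) : ℕ)) = ![-1, -1, 1] := by
      funext i
      rw [hσ]
      fin_cases i <;> simp
    rw [hd, Matrix.smul_mul] at hQ₁
    calc (x : Matrix (Fin 3) (Fin 3) F) * (Q₁ : Matrix (Fin 3) (Fin 3) F)
        = z⁻¹ • (z • ((x : Matrix (Fin 3) (Fin 3) F) * (Q₁ : Matrix (Fin 3) (Fin 3) F))) := by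
          rw [smul_smul, inv_mul_cancel₀ hz0, one_smul]
      _ = _ := by
          rw [hQ₁, ← Matrix.mul_smul, ← diagonal_smul]
          rfl
  · refine coe_map_conj P ?_ rfl
    rw [Units.val_mul, hc, Matrix.smul_mul, one_mul, Matrix.smul_mul]
    ext i j
    fin_cases i <;> fin_cases j <;>
      simp [negSwapGL, negSwap, Q₂, GeneralLinearGroup.mkOfDetNeZero, Matrix.mul_apply,
        Fin.sum_univ_three]

/-- Elements whose cube is scalar have a conjugate in the normaliser once a cube root of the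
scalar is available. -/
theorem exists_diag_three [Finite F] {ω : F} (hω : IsPrimitiveRoot ω 3) (h3 : (3 : F) ≠ 0)
    {R : Subgroup (GL (Fin 3) F)} {P : GL (Fin 3) F}
    (hP : R = (heis (geo ω) (geo_ne hω)).map (MulAut.conj P).toMonoidHom)
    {x : GL (Fin 3) F} {ε : F} (hε : ε ≠ 0)
    (hz : ((x ^ 3 : GL (Fin 3) F) : Matrix (Fin 3) (Fin 3) F) = ε ^ 3 • 1) :
    ∃ (h Q Q' : GL (Fin 3) F) (d : Fin 3 → F),
      h ∈ Subgroup.normalizer (R : Set (GL (Fin 3) F)) ∧
      (x : Matrix (Fin 3) (Fin 3) F) * Q = (Q : Matrix (Fin 3) (Fin 3) F) * diagonal d ∧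
      (h : Matrix (Fin 3) (Fin 3) F) * Q' = (Q' : Matrix (Fin 3) (Fin 3) F) * diagonal d := by
  rw [Units.val_pow_eq_pow_val] at hz
  obtain ⟨Q, f, hQ⟩ := exists_diag hω (by exact_mod_cast h3)
    (M := ε⁻¹ • (x : Matrix (Fin 3) (Fin 3) F))
    (by rw [_root_.smul_pow, hz, smul_smul, ← mul_pow, inv_mul_cancel₀ hε, one_pow, one_smul])
  have hd : ∀ i, ε * ω ^ (f i : ℕ) ≠ 0 := fun i =>
    mul_ne_zero hε (pow_ne_zero _ (hω.ne_zero (by norm_num)))
  refine ⟨P * dia _ hd * P⁻¹, Q, P * 1, fun i => ε * ω ^ (f i : ℕ),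
    conj_mem_normalizer hP (dia_mem_normalizer hω _ hd (fun _ => rfl)), ?_, ?_⟩
  · rw [Matrix.smul_mul] at hQ
    calc (x : Matrix (Fin 3) (Fin 3) F) * (Q : Matrix (Fin 3) (Fin 3) F)
        = ε • (ε⁻¹ • ((x : Matrix (Fin 3) (Fin 3) F) * (Q : Matrix (Fin 3) (Fin 3) F))) := by
          rw [smul_smul, mul_inv_cancel₀ hε, one_smul]
      _ = _ := by
          rw [hQ, ← Matrix.mul_smul, ← diagonal_smul]
          rfl
  · refine coe_map_conj P ?_ rfl
    rw [Units.val_one, mul_one, one_mul, coe_dia]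

/-- No element of prime order at least five and determinant one normalises the group. -/
theorem no_large [Finite F] {ω : F} (hω : IsPrimitiveRoot ω 3)
    {R : Subgroup (GL (Fin 3) F)} {P : GL (Fin 3) F}
    (hP : R = (heis (geo ω) (geo_ne hω)).map (MulAut.conj P).toMonoidHom) (hR : Nat.card R = 27)
    {h : GL (Fin 3) F} (hh : h ∈ Subgroup.normalizer (R : Set (GL (Fin 3) F)))
    (hdet : (h : Matrix (Fin 3) (Fin 3) F).det = 1) {r : ℕ} [hr : Fact r.Prime]
    (hr2 : r ≠ 2) (hr3 : r ≠ 3) (hord : orderOf h = r) : False := by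
  classical
  haveI : Fintype R := Fintype.ofFinite R
  have hn := Subgroup.mem_normalizer_iff.1 hh
  let π : Equiv.Perm R := (MulAut.conj h).toEquiv.subtypeEquiv fun x => hn x
  have hπc : ∀ (n : ℕ) (x : R), (((π ^ n) x : R) : GL (Fin 3) F) = h ^ n * x * (h ^ n)⁻¹ := by
    intro n
    induction n with
    | zero => simp
    | succ n ih =>
      intro x
      rw [pow_succ', Equiv.Perm.mul_apply]
      show h * ((π ^ n) x : GL (Fin 3) F) * h⁻¹ = _
      rw [ih, pow_succ']
      group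
  have hπr : π ^ r = 1 := by
    ext x
    rw [hπc, ← hord, pow_orderOf_eq_one]
    simp
  have hmod := Equiv.Perm.card_compl_support_modEq (p := r) (n := 1) (σ := π) (by rwa [pow_one])
  rw [← Nat.card_eq_fintype_card, hR] at hmod
  let C : Subgroup (GL (Fin 3) F) := R ⊓ Subgroup.centralizer {h}
  have hCcard : π.supportᶜ.card = Nat.card C := by
    rw [← Nat.card_eq_finsetCard]
    refine Nat.card_congr
      { toFun := fun x => ⟨(x : R), (x : R).2, ?_⟩
        invFun := fun x => ⟨⟨x, x.2.1⟩, ?_⟩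
        left_inv := fun x => rfl
        right_inv := fun x => rfl }
    · have hx := x.2
      rw [Finset.mem_compl, Equiv.Perm.mem_support, not_not] at hx
      have h1 : h * ((x : R) : GL (Fin 3) F) * h⁻¹ = (x : R) := congrArg Subtype.val hx
      exact Subgroup.mem_centralizer_singleton_iff.2 (mul_inv_eq_iff_eq_mul.1 h1).symm
    · rw [Finset.mem_compl, Equiv.Perm.mem_support, not_not]
      apply Subtype.ext
      show h * (x : GL (Fin 3) F) * h⁻¹ = x
      rw [mul_inv_eq_iff_eq_mul]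
      exact (Subgroup.mem_centralizer_singleton_iff.1 x.2.2).symm
  rw [hCcard] at hmod
  -- the scalar of order three is fixed
  obtain ⟨z, hz, hzω⟩ := scalar_mem_heis hω
  have hz' : P * z * P⁻¹ ∈ C := by
    refine Subgroup.mem_inf.2 ⟨hP ▸ ⟨z, hz, rfl⟩,
      Subgroup.mem_centralizer_singleton_iff.2 (Units.ext ?_)⟩
    have : ((P * z * P⁻¹ : GL (Fin 3) F) : Matrix (Fin 3) (Fin 3) F) = ω • 1 := by
      rw [Units.val_mul, Units.val_mul, hzω, Matrix.mul_smul, mul_one, Matrix.smul_mul,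
        ← Units.val_mul, mul_inv_cancel, Units.val_one]
    rw [Units.val_mul _ h, Units.val_mul h, this, Matrix.smul_mul, Matrix.mul_smul, one_mul, mul_one]
  have hC1 : Nat.card C ≠ 1 := by
    intro h1
    have h2 := (Subgroup.eq_bot_iff_forall C).1 (Subgroup.card_eq_one.1 h1) _ hz'
    rw [mul_inv_eq_one] at h2
    have h3 : z = 1 := by simpa using h2
    rw [h3, Units.val_one] at hzω
    have := congrFun (congrFun hzω 0) 0
    exact hω.ne_one (by norm_num) (by simpa using this.symm)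
  have hCdvd : Nat.card C ∣ 3 ^ 3 := by
    have := Subgroup.card_dvd_of_le (inf_le_left : C ≤ R)
    rw [hR] at this
    exact this
  obtain ⟨i, hi, hci⟩ := (Nat.dvd_prime_pow Nat.prime_three).1 hCdvd
  have hCR : C = R := by
    interval_cases i
    · exact absurd hci hC1
    · exfalso
      rw [hci, pow_one] at hmod
      have hd : r ∣ 24 := (Nat.modEq_iff_dvd' (by norm_num : 3 ≤ 27)).1 hmod
      have hle := Nat.le_of_dvd (by norm_num) hd
      have := hr.out.two_le
      interval_cases r <;> first | omega | norm_num at hr ⊢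
      all_goals exact absurd hr.out (by norm_num)
    · exfalso
      rw [hci] at hmod
      norm_num at hmod
      have hd : r ∣ 18 := (Nat.modEq_iff_dvd' (by norm_num : 9 ≤ 27)).1 hmod
      have hle := Nat.le_of_dvd (by norm_num) hd
      have := hr.out.two_le
      interval_cases r <;> first | omega | norm_num at hr ⊢
      all_goals exact absurd hr.out (by norm_num)
    · exact Subgroup.eq_of_le_of_card_ge inf_le_left (by rw [hR, hci]; norm_num)
  set k := P⁻¹ * h * P with hk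
  have hgen : ∀ s ∈ heis (geo ω) (geo_ne hω), k * s = s * k := by
    intro s hs
    have h1 : P * s * P⁻¹ ∈ C := hCR ▸ (hP ▸ ⟨s, hs, rfl⟩ : P * s * P⁻¹ ∈ R)
    have h2 := Subgroup.mem_centralizer_singleton_iff.1 h1.2
    calc k * s = P⁻¹ * (h * (P * s * P⁻¹)) * P := by rw [hk]; group
      _ = P⁻¹ * ((P * s * P⁻¹) * h) * P := by rw [h2]
      _ = s * k := by rw [hk]; group
  have hks : (k : Matrix (Fin 3) (Fin 3) F) =
      (k : Matrix (Fin 3) (Fin 3) F) 0 0 • 1 :=
    commute_heis_scalar hω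
      (congrArg Units.val (hgen (dia (geo ω) (geo_ne hω)) (Subgroup.subset_closure (by simp))))
      (congrArg Units.val (hgen (shiftGL F) (Subgroup.subset_closure (by simp))))
  set c := (k : Matrix (Fin 3) (Fin 3) F) 0 0
  have hhs : (h : Matrix (Fin 3) (Fin 3) F) = c • 1 := by
    rw [show h = P * k * P⁻¹ by rw [hk]; group, Units.val_mul, Units.val_mul, hks, Matrix.mul_smul,
      mul_one, Matrix.smul_mul, ← Units.val_mul, mul_inv_cancel, Units.val_one]
  have hc3 : c ^ 3 = 1 := by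
    rw [hhs, det_smul, det_one, mul_one, Fintype.card_fin] at hdet
    exact hdet
  have h31 : h ^ 3 = 1 := by
    apply Units.ext
    rw [Units.val_pow_eq_pow_val, hhs, _root_.smul_pow, hc3, one_pow, one_smul, Units.val_one]
  have hdvd := orderOf_dvd_of_pow_eq_one h31
  rw [hord] at hdvd
  exact hr3 ((Nat.prime_dvd_prime_iff_eq hr.out Nat.prime_three).1 hdvd)

theorem heis_le_special [Finite F] {ω : F} (hω : IsPrimitiveRoot ω 3)
    {R : Subgroup (GL (Fin 3) F)} {P : GL (Fin 3) F}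
    (hP : R = (heis (geo ω) (geo_ne hω)).map (MulAut.conj P).toMonoidHom) :
    R ≤ Cfsg.Geo.specialLinear (Fin 3) F := by
  rw [hP, Subgroup.map_le_iff_le_comap, heis, Subgroup.closure_le]
  rintro s hs
  have hs1 : (s : Matrix (Fin 3) (Fin 3) F).det = 1 := by
    rcases hs with rfl | hs
    · rw [coe_dia, det_diagonal, Fin.prod_univ_three]
      simp [geo]
      linear_combination hω.pow_eq_one
    · rw [Set.mem_singleton_iff] at hs
      rw [hs, coe_shiftGL, det_shiftMat]
  show Matrix.GeneralLinearGroup.det (P * s * P⁻¹) = 1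
  rw [map_mul, map_mul, map_inv, mul_comm _ (Matrix.GeneralLinearGroup.det s),
    mul_inv_cancel_right]
  exact Units.ext hs1

end Cfsg.Agent.LinGrp12
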