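import Cfsg.Agent.LinGrp12.HeisThreeTools
import Cfsg.Agent.Lib.Unitary.Count
import Cfsg.Agent.Lib.Forms.Sesq

/-!
# Extraspecial subgroups of order 27 inside `GU₃` (helper12)
-/

set_option autoImplicit false

namespace Cfsg.Agent.LinGrp12

open Matrix Cfsg.Agent.Unitary

variable {F : Type*} [Field F] [Fintype F] {q : ℕ}

omit [Fintype F] in
theorem mulVec_eq_sum {n : ℕ} (M : Matrix (Fin n) (Fin n) F) (x : Fin n → F) :
    M *ᵥ x = ∑ i, x i • fun r => M r i := by
  ext r
  simp [mulVec, dotProduct, mul_comm]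

/-- A matrix with orthonormal columns is unitary. -/
theorem mem_GU_of_cols (hF : Fintype.card F = q ^ 2) {n : ℕ} {g : GL (Fin n) F}
    (h : ∀ i j, herm q (fun r => (g : Matrix (Fin n) (Fin n) F) r i)
      (fun r => (g : Matrix (Fin n) (Fin n) F) r j) = if i = j then 1 else 0) :
    g ∈ Cfsg.GU n F q := by
  intro x y
  show herm q ((g : Matrix (Fin n) (Fin n) F) *ᵥ x) ((g : Matrix (Fin n) (Fin n) F) *ᵥ y) = _
  rw [mulVec_eq_sum, mulVec_eq_sum, herm_sum_left]
  simp only [herm_smul_left]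
  rw [hermForm]
  refine Finset.sum_congr rfl fun i _ => ?_
  congr 1
  rw [← hermB_apply hF, map_sum, LinearMap.sum_apply]
  simp [hermB_apply, h, conjHom_apply]

omit [Fintype F] in
theorem cols_of_mem_GU {n : ℕ} {g : GL (Fin n) F} (hg : g ∈ Cfsg.GU n F q) (hq : 0 < q)
    (i j : Fin n) :
    herm q (fun r => (g : Matrix (Fin n) (Fin n) F) r i)
      (fun r => (g : Matrix (Fin n) (Fin n) F) r j) = if i = j then 1 else 0 := by
  have h := hg (Pi.single i 1) (Pi.single j 1)
  simp only [Units.coeHom_apply, Matrix.mulVec_single_one] at h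
  refine Eq.trans h ?_
  rw [hermForm, Finset.sum_eq_single i]
  · by_cases hij : i = j
    · simp [hij]
    · simp [hij, hq.ne']
  · intro b _ hb
    simp [hb]
  · simp

theorem det_norm_one (hF : Fintype.card F = q ^ 2) {g : GL (Fin 3) F} (hg : g ∈ Cfsg.GU 3 F q) :
    (g : Matrix (Fin 3) (Fin 3) F).det ^ (q + 1) = 1 :=
  det_norm hF (⟨g, hg⟩ : Cfsg.GU 3 F q)

theorem dia_mem_GU (hF : Fintype.card F = q ^ 2) {d : Fin 3 → F} (hd : ∀ i, d i ≠ 0)
    (hn : ∀ i, d i ^ (q + 1) = 1) : dia d hd ∈ Cfsg.GU 3 F q := by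
  refine mem_GU_of_cols hF fun i j => ?_
  simp only [coe_dia, herm, hermForm]
  rw [Finset.sum_eq_single i]
  · by_cases hij : i = j
    · subst hij
      simp [← pow_succ', hn]
    · simp [hij, zero_pow (q_pos hF).ne']
  · intro b _ hb
    simp [hb]
  · simp

theorem negSwapGL_mem_GU (hF : Fintype.card F = q ^ 2) : negSwapGL F ∈ Cfsg.GU 3 F q := by
  refine mem_GU_of_cols hF fun i j => ?_
  have h0 := zero_pow_q hF
  have h1 : (-1 : F) ^ q = -1 := by rw [neg_pow_q hF, one_pow]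
  fin_cases i <;> fin_cases j <;>
    simp [negSwapGL, GeneralLinearGroup.mkOfDetNeZero, negSwap, herm, hermForm,
      Fin.sum_univ_three, h0, h1]

/-- Unitary elements of order prime to `p` with all eigenvalues of norm one have an orthonormal
eigenbasis. -/
theorem exists_diag_unitary (hF : Fintype.card F = q ^ 2) {k : ℕ} {ζ : F} (hζ : IsPrimitiveRoot ζ k)
    (hk : (k : F) ≠ 0) (hkq : k ∣ q + 1) {M : Matrix (Fin 3) (Fin 3) F} (hM : M ^ k = 1)
    (hU : ∀ u v, herm q (M *ᵥ u) (M *ᵥ v) = herm q u v) :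
    ∃ (Q : GL (Fin 3) F) (f : Fin 3 → Fin k), Q ∈ Cfsg.GU 3 F q ∧
      M * (Q : Matrix (Fin 3) (Fin 3) F) =
        (Q : Matrix (Fin 3) (Fin 3) F) * diagonal (fun i => ζ ^ (f i : ℕ)) := by
  classical
  have hk0 : k ≠ 0 := fun h => hk (by simp [h])
  have hζ0 : ζ ≠ 0 := hζ.ne_zero hk0
  obtain ⟨Q₀, f₀, hQ₀⟩ := exists_diag hζ hk hM
  let E : Fin k → Submodule F (Fin 3 → F) := fun c =>
    Module.End.eigenspace (Matrix.toLin' M) (ζ ^ (c : ℕ))
  have hE : ∀ c v, v ∈ E c ↔ M *ᵥ v = ζ ^ (c : ℕ) • v := fun c v => by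
    rw [Module.End.mem_eigenspace_iff, Matrix.toLin'_apply]
  have horth : ∀ c c', c ≠ c' → ∀ u ∈ E c, ∀ v ∈ E c', herm q u v = 0 := by
    intro c c' hcc u hu v hv
    have h := hU u v
    rw [(hE c u).1 hu, (hE c' v).1 hv, herm_smul_left, herm_smul_right hF, ← mul_assoc] at h
    by_contra hne
    have h1 : ζ ^ (c : ℕ) * (ζ ^ (c' : ℕ)) ^ q = 1 := (mul_eq_right₀ hne).1 h
    have h2 : (ζ ^ (c' : ℕ)) ^ (q + 1) = 1 := by
      obtain ⟨t, ht⟩ := hkq
      rw [← pow_mul, ht, ← mul_assoc, mul_comm (c' : ℕ), mul_assoc, pow_mul, hζ.pow_eq_one, one_pow]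
    rw [pow_succ'] at h2
    exact hcc (Fin.ext (hζ.pow_inj c.2 c'.2 (mul_right_cancel₀
      (pow_ne_zero _ (pow_ne_zero _ hζ0)) (h1.trans h2.symm))))
  set col : Fin 3 → (Fin 3 → F) := fun j r => (Q₀ : Matrix (Fin 3) (Fin 3) F) r j with hcol
  have hcolE : ∀ j, col j ∈ E (f₀ j) := fun j => by
    rw [hE]
    ext r
    have h := congrFun (congrFun hQ₀ r) j
    rw [Matrix.mul_diagonal, Matrix.mul_apply] at h
    simp only [mulVec, dotProduct, Pi.smul_apply, smul_eq_mul, hcol]
    rw [h, mul_comm]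
  have hspan : ∀ v : Fin 3 → F, v = ∑ j,
      (((Q₀⁻¹ : GL (Fin 3) F) : Matrix (Fin 3) (Fin 3) F) *ᵥ v) j • col j := fun v => by
    rw [← mulVec_eq_sum, mulVec_mulVec, ← Units.val_mul, mul_inv_cancel, Units.val_one,
      one_mulVec]
  have hnd : ∀ c, ∀ w ∈ E c, (∀ v ∈ E c, hermB hF 3 w v = 0) → w = 0 := by
    intro c w hw hwv
    refine eq_zero_of_herm hF fun y => ?_
    rw [herm_eq_zero_comm hF, hspan y, herm_sum_left]
    refine Finset.sum_eq_zero fun j _ => ?_
    rw [herm_smul_left]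
    by_cases hj : f₀ j = c
    · rw [show herm q (col j) w = 0 from hwv _ (hj ▸ hcolE j), mul_zero]
    · rw [horth _ _ hj _ (hcolE j) _ hw, mul_zero]
  have hb : ∀ c, ∃ b : Fin (Module.finrank F (E c)) → (Fin 3 → F),
      (∀ i, b i ∈ E c) ∧ ∀ i j, hermB hF 3 (b i) (b j) = if i = j then 1 else 0 := fun c =>
    Forms.exists_orthonormal_family (σ := conjHom hF) (conjHom_ne_id hF) (pow_q_pow_q hF)
      (hermB hF 3) ⟨fun x y => (herm_swap hF y x).symm⟩ _ (E c) (hnd c) rfl
  choose b hbE hbo using hb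
  let v : (Σ c, Fin (Module.finrank F (E c))) → (Fin 3 → F) := fun x => b x.1 x.2
  have hbo' : ∀ c i j, herm q (b c i) (b c j) = if i = j then 1 else 0 := fun c i j => by
    have h := hbo c j i
    rw [hermB_apply] at h
    simpa [eq_comm] using h
  have hv : ∀ x y, herm q (v x) (v y) = if x = y then 1 else 0 := by
    rintro ⟨c, i⟩ ⟨c', j⟩
    by_cases hc : c = c'
    · subst hc
      simp [v, hbo']
    · rw [if_neg (fun h => hc (congrArg Sigma.fst h))]
      exact horth c c' hc _ (hbE c i) _ (hbE c' j)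
  have hli : LinearIndependent F v := by
    rw [Fintype.linearIndependent_iff]
    intro g hg x
    have := congrArg (fun z => herm q z (v x)) hg
    simpa [herm_sum_left, herm_smul_left, hv] using this
  have hcard : Fintype.card (Σ c, Fin (Module.finrank F (E c))) = 3 := by
    refine le_antisymm ?_ ?_
    · simpa using hli.fintype_card_le_finrank
    · have htop : (⊤ : Submodule F (Fin 3 → F)) ≤ Submodule.span F (Set.range v) := by
        intro y _
        rw [hspan y]
        refine Submodule.sum_mem _ fun j _ => Submodule.smul_mem _ _ ?_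
        have hlib : LinearIndependent F (b (f₀ j)) :=
          hli.comp (fun i => (⟨f₀ j, i⟩ : Σ c, Fin (Module.finrank F (E c))))
            fun a b hab => eq_of_heq (Sigma.mk.inj hab).2
        have heq : Submodule.span F (Set.range (b (f₀ j))) = E (f₀ j) :=
          Submodule.eq_of_le_of_finrank_eq
            (Submodule.span_le.2 (Set.range_subset_iff.2 (hbE _)))
            (by rw [finrank_span_eq_card hlib, Fintype.card_fin])
        exact Submodule.span_mono (Set.range_subset_iff.2 fun i => Set.mem_range.2 ⟨⟨f₀ j, i⟩, rfl⟩)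
          (heq.symm ▸ hcolE j)
      have := Submodule.finrank_mono htop
      rw [finrank_top, Module.finrank_fin_fun, finrank_span_eq_card hli] at this
      exact this
  let σ := (Fintype.equivFinOfCardEq hcard).symm
  let Qm : Matrix (Fin 3) (Fin 3) F := Matrix.of fun r j => v (σ j) r
  have hQm : IsUnit Qm := by
    rw [← Matrix.linearIndependent_cols_iff_isUnit]
    exact hli.comp σ σ.injective
  refine ⟨hQm.unit, fun j => (σ j).1, mem_GU_of_cols hF fun i j => ?_, ?_⟩
  · rw [IsUnit.unit_spec]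
    show herm q (v (σ i)) (v (σ j)) = _
    rw [hv]
    simp [σ.injective.eq_iff]
  · rw [IsUnit.unit_spec]
    ext r j
    rw [Matrix.mul_diagonal, Matrix.mul_apply]
    have h := congrFun ((hE _ _).1 (hbE (σ j).1 (σ j).2)) r
    simp only [mulVec, dotProduct, Pi.smul_apply, smul_eq_mul] at h
    show ∑ c, M r c * v (σ j) c = v (σ j) r * _
    rw [mul_comm]
    exact h

/-- Two elements with the same orthonormal diagonal form are conjugate in `SU`. -/
theorem exists_su_conj (hF : Fintype.card F = q ^ 2) {x h Q Q' : GL (Fin 3) F} {d : Fin 3 → F}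
    (hQU : Q ∈ Cfsg.GU 3 F q) (hQU' : Q' ∈ Cfsg.GU 3 F q)
    (hx : (x : Matrix (Fin 3) (Fin 3) F) * Q = (Q : Matrix (Fin 3) (Fin 3) F) * diagonal d)
    (hh : (h : Matrix (Fin 3) (Fin 3) F) * Q' = (Q' : Matrix (Fin 3) (Fin 3) F) * diagonal d) :
    ∃ g ∈ Cfsg.GU 3 F q ⊓ Cfsg.Geo.specialLinear (Fin 3) F, g⁻¹ * x * g = h := by
  set δ : F := (Q' : Matrix (Fin 3) (Fin 3) F).det / (Q : Matrix (Fin 3) (Fin 3) F).det with hδ
  have hQ : (Q : Matrix (Fin 3) (Fin 3) F).det ≠ 0 :=
    (Matrix.GeneralLinearGroup.det Q).ne_zero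
  have hQ' : (Q' : Matrix (Fin 3) (Fin 3) F).det ≠ 0 :=
    (Matrix.GeneralLinearGroup.det Q').ne_zero
  let c : Fin 3 → F := ![δ, 1, 1]
  have hc : ∀ i, c i ≠ 0 := by
    intro i
    fin_cases i <;> simp [c, hδ, hQ, hQ']
  have hcn : ∀ i, c i ^ (q + 1) = 1 := by
    intro i
    fin_cases i <;> simp [c, hδ, div_pow, det_norm_one hF hQU, det_norm_one hF hQU']
  refine ⟨Q * dia c hc * Q'⁻¹, Subgroup.mem_inf.2 ⟨?_, ?_⟩, ?_⟩
  · exact mul_mem (mul_mem hQU (dia_mem_GU hF hc hcn)) (inv_mem hQU')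
  · rw [mem_special_iff, Units.val_mul, Units.val_mul, det_mul, det_mul, coe_dia,
      det_diagonal, Fin.prod_univ_three]
    have : ((Q'⁻¹ : GL (Fin 3) F) : Matrix (Fin 3) (Fin 3) F).det =
        ((Q' : Matrix (Fin 3) (Fin 3) F).det)⁻¹ := by
      refine eq_inv_of_mul_eq_one_left ?_
      rw [← det_mul, ← Units.val_mul, inv_mul_cancel, Units.val_one, det_one]
    rw [this]
    simp [c, hδ]
    field_simp
  · have h1 : x * (Q * dia c hc) = (Q * dia c hc) * (Q'⁻¹ * h * Q') := by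
      have h2 : ((Q'⁻¹ * h * Q' : GL (Fin 3) F) : Matrix (Fin 3) (Fin 3) F) = diagonal d := by
        rw [mul_assoc, Units.val_mul, Units.val_mul, hh, ← mul_assoc, ← Units.val_mul,
          inv_mul_cancel, Units.val_one, one_mul]
      apply Units.ext
      rw [Units.val_mul x, Units.val_mul (Q * dia c hc), h2, Units.val_mul Q, coe_dia, ← mul_assoc,
        hx, mul_assoc, mul_assoc, diagonal_mul_diagonal, diagonal_mul_diagonal]
      simp_rw [mul_comm]
    calc (Q * dia c hc * Q'⁻¹)⁻¹ * x * (Q * dia c hc * Q'⁻¹)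
        = Q' * ((Q * dia c hc)⁻¹ * (x * (Q * dia c hc))) * Q'⁻¹ := by group
      _ = h := by rw [h1]; group

/-- Permute the columns of a unitary diagonalising matrix. -/
theorem diag_perm_unitary (hF : Fintype.card F = q ^ 2) {M : Matrix (Fin 3) (Fin 3) F}
    {Q : GL (Fin 3) F} (hQU : Q ∈ Cfsg.GU 3 F q) {d : Fin 3 → F}
    (h : M * (Q : Matrix (Fin 3) (Fin 3) F) = (Q : Matrix (Fin 3) (Fin 3) F) * diagonal d)
    (σ : Equiv.Perm (Fin 3)) :
    ∃ Q' : GL (Fin 3) F, Q' ∈ Cfsg.GU 3 F q ∧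
      M * (Q' : Matrix (Fin 3) (Fin 3) F) =
        (Q' : Matrix (Fin 3) (Fin 3) F) * diagonal (fun i => d (σ i)) := by
  refine ⟨GeneralLinearGroup.mkOfDetNeZero ((Q : Matrix (Fin 3) (Fin 3) F).submatrix id σ) ?_,
    mem_GU_of_cols hF fun i j => ?_, ?_⟩
  · rw [det_permute']
    refine mul_ne_zero ?_ (Matrix.GeneralLinearGroup.det Q).ne_zero
    rcases Int.units_eq_one_or (Equiv.Perm.sign σ) with h1 | h1 <;> simp [h1]
  · show herm q (fun r => (Q : Matrix (Fin 3) (Fin 3) F) r (σ i))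
      (fun r => (Q : Matrix (Fin 3) (Fin 3) F) r (σ j)) = _
    rw [cols_of_mem_GU hQU (q_pos hF)]
    simp [σ.injective.eq_iff]
  · show M * (Q : Matrix (Fin 3) (Fin 3) F).submatrix id σ = _
    ext i j
    have h1 := congrFun (congrFun h i) (σ j)
    rw [Matrix.mul_diagonal, Matrix.mul_apply] at h1
    rw [Matrix.mul_diagonal, Matrix.mul_apply]
    exact h1

/-- The diagonal form of a unitary element of determinant one with scalar square. -/
theorem diag_two (hF : Fintype.card F = q ^ 2) (h2 : (2 : F) ≠ 0) (hq2 : 2 ∣ q + 1)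
    {x : GL (Fin 3) F} (hU : x ∈ Cfsg.GU 3 F q)
    (hdet : (x : Matrix (Fin 3) (Fin 3) F).det = 1) {z : F} (hzn : z ^ (q + 1) = 1)
    (hz : (x : Matrix (Fin 3) (Fin 3) F) ^ 2 = z • 1)
    (hns : ∀ c : F, (x : Matrix (Fin 3) (Fin 3) F) ≠ c • 1) :
    ∃ Q : GL (Fin 3) F, Q ∈ Cfsg.GU 3 F q ∧
      (x : Matrix (Fin 3) (Fin 3) F) * Q =
        (Q : Matrix (Fin 3) (Fin 3) F) * diagonal (fun i => z⁻¹ * (![-1, -1, 1] : Fin 3 → F) i) := by
  have hz3 : z ^ 3 = 1 := by
    have := congrArg Matrix.det hz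
    rw [det_pow, hdet, one_pow, det_smul, det_one, mul_one, Fintype.card_fin] at this
    exact this.symm
  have hz0 : z ≠ 0 := fun h => by simp [h] at hz3
  have hm : IsPrimitiveRoot (-1 : F) 2 := by
    rw [IsPrimitiveRoot.iff_orderOf]
    refine orderOf_eq_prime (by ring) fun h => h2 ?_
    linear_combination -h
  obtain ⟨Q, f, hQU, hQ⟩ := exists_diag_unitary hF hm (by exact_mod_cast h2) hq2
    (M := z • (x : Matrix (Fin 3) (Fin 3) F))
    (by rw [_root_.smul_pow, hz, smul_smul, ← pow_succ, hz3, one_smul])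
    (fun u v => by
      rw [Matrix.smul_mulVec, Matrix.smul_mulVec, herm_smul_left, herm_smul_right hF, ← mul_assoc,
        ← pow_succ', hzn, one_mul]
      exact hU u v)
  have hQd : (Q : Matrix (Fin 3) (Fin 3) F).det ≠ 0 :=
    (Matrix.GeneralLinearGroup.det Q).ne_zero
  have hsum : f 0 + f 1 + f 2 = 0 := by
    have h1 := congrArg Matrix.det hQ
    rw [det_mul, det_mul, det_smul, hdet, mul_one, Fintype.card_fin, hz3, one_mul, det_diagonal,
      Fin.prod_univ_three, ← pow_add, ← pow_add] at h1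
    have h3 : (-1 : F) ^ ((f 0 : ℕ) + f 1 + f 2) = 1 :=
      mul_left_cancel₀ hQd (by rw [mul_one]; exact h1.symm)
    have h4 := hm.dvd_of_pow_eq_one _ h3
    apply Fin.ext
    simp only [Fin.val_add, Fin.val_zero]
    omega
  rcases two_diag f hsum with h0 | ⟨σ, hσ⟩
  · exfalso
    simp only [h0, Fin.val_zero, pow_zero, diagonal_one, mul_one] at hQ
    refine hns z⁻¹ ?_
    have h1 : z • (x : Matrix (Fin 3) (Fin 3) F) = 1 := by
      have := congrArg (fun A => A * ((Q⁻¹ : GL (Fin 3) F) : Matrix (Fin 3) (Fin 3) F)) hQ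
      simpa [mul_assoc] using this
    rw [← h1, smul_smul, inv_mul_cancel₀ hz0, one_smul]
  obtain ⟨Q₁, hQ₁U, hQ₁⟩ := diag_perm_unitary hF hQU hQ σ
  refine ⟨Q₁, hQ₁U, ?_⟩
  have hd : (fun i => (-1 : F) ^ (f (σ i) : ℕ)) = ![-1, -1, 1] := by
    funext i
    rw [hσ]
    fin_cases i <;> simp
  rw [hd, Matrix.smul_mul] at hQ₁
  calc (x : Matrix (Fin 3) (Fin 3) F) * (Q₁ : Matrix (Fin 3) (Fin 3) F)
      = z⁻¹ • (z • ((x : Matrix (Fin 3) (Fin 3) F) * (Q₁ : Matrix (Fin 3) (Fin 3) F))) := by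
        rw [smul_smul, inv_mul_cancel₀ hz0, one_smul]
    _ = _ := by
        rw [hQ₁, ← Matrix.mul_smul, ← diagonal_smul]
        rfl

/-- The normal form can be achieved by a unitary change of basis. -/
theorem exists_unitary_form (hF : Fintype.card F = q ^ 2) {ω : F} (hω : IsPrimitiveRoot ω 3)
    (hωq : ω ^ (q + 1) = 1) {R : Subgroup (GL (Fin 3) F)} (hRU : R ≤ Cfsg.GU 3 F q)
    {P : GL (Fin 3) F}
    (hP : R = (heis (geo ω) (geo_ne hω)).map (MulAut.conj P).toMonoidHom) :
    ∃ P' : GL (Fin 3) F, P' ∈ Cfsg.GU 3 F q ∧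
      R = (heis (geo ω) (geo_ne hω)).map (MulAut.conj P').toMonoidHom := by
  set col : Fin 3 → (Fin 3 → F) := fun j r => (P : Matrix (Fin 3) (Fin 3) F) r j with hcol
  have hD : P * dia (geo ω) (geo_ne hω) * P⁻¹ ∈ R :=
    hP ▸ ⟨_, Subgroup.subset_closure (by simp), rfl⟩
  have hC : P * shiftGL F * P⁻¹ ∈ R :=
    hP ▸ ⟨_, Subgroup.subset_closure (by simp), rfl⟩
  set x := P * dia (geo ω) (geo_ne hω) * P⁻¹ with hx
  set y := P * shiftGL F * P⁻¹ with hy
  have hxc : ∀ j : Fin 3, (x : Matrix (Fin 3) (Fin 3) F) *ᵥ col j = ω ^ (j : ℕ) • col j := by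
    intro j
    have h : x * P = P * dia (geo ω) (geo_ne hω) := by rw [hx]; group
    have h' := congrArg Units.val h
    rw [Units.val_mul x P, Units.val_mul P, coe_dia] at h'
    ext r
    have h'' := congrFun (congrFun h' r) j
    rw [Matrix.mul_diagonal, Matrix.mul_apply] at h''
    simp only [mulVec, dotProduct, Pi.smul_apply, smul_eq_mul, hcol]
    rw [h'', mul_comm, geo]
  have hyc : ∀ j : Fin 3, (y : Matrix (Fin 3) (Fin 3) F) *ᵥ col j = col (j + 1) := by
    intro j
    have h : y * P = P * shiftGL F := by rw [hy]; group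
    have h' := congrArg Units.val h
    rw [Units.val_mul y P, Units.val_mul P, coe_shiftGL] at h'
    ext r
    have h'' := congrFun (congrFun h' r) j
    rw [mul_shift_cols, Matrix.mul_apply] at h''
    simp only [mulVec, dotProduct, hcol]
    rw [h'']
  have hoff : ∀ i j : Fin 3, i ≠ j → herm q (col i) (col j) = 0 := by
    intro i j hij
    have h : herm q ((x : Matrix (Fin 3) (Fin 3) F) *ᵥ col i)
        ((x : Matrix (Fin 3) (Fin 3) F) *ᵥ col j) = herm q (col i) (col j) :=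
      hRU hD (col i) (col j)
    rw [hxc, hxc, herm_smul_left, herm_smul_right hF, ← mul_assoc] at h
    by_contra hne
    have h1 : ω ^ (i : ℕ) * (ω ^ (j : ℕ)) ^ q = 1 := (mul_eq_right₀ hne).1 h
    have h2 : ω ^ (j : ℕ) * (ω ^ (j : ℕ)) ^ q = 1 := by
      rw [← pow_succ', ← pow_mul, mul_comm, pow_mul, hωq, one_pow]
    exact hij (Fin.ext (hω.pow_inj i.2 j.2 (mul_right_cancel₀
      (pow_ne_zero _ (pow_ne_zero _ (hω.ne_zero (by norm_num)))) (h1.trans h2.symm))))
  have hstep : ∀ i : Fin 3, herm q (col (i + 1)) (col (i + 1)) = herm q (col i) (col i) := by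
    intro i
    have h : herm q ((y : Matrix (Fin 3) (Fin 3) F) *ᵥ col i)
        ((y : Matrix (Fin 3) (Fin 3) F) *ᵥ col i) = herm q (col i) (col i) :=
      hRU hC (col i) (col i)
    rwa [hyc] at h
  set lam := herm q (col 0) (col 0) with hlam
  have hdiag : ∀ i : Fin 3, herm q (col i) (col i) = lam := by
    have h1 : herm q (col 1) (col 1) = lam := hstep 0
    have h2 : herm q (col 2) (col 2) = lam := (hstep 1).trans h1
    intro i
    fin_cases i
    · rfl
    · exact h1
    · exact h2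
  have hlam0 : lam ≠ 0 := by
    intro h0
    have : col 0 = 0 := by
      refine eq_zero_of_herm hF fun w => ?_
      have hw : w = ∑ j, (((P⁻¹ : GL (Fin 3) F) : Matrix (Fin 3) (Fin 3) F) *ᵥ w) j • col j := by
        rw [← mulVec_eq_sum, mulVec_mulVec, ← Units.val_mul, mul_inv_cancel, Units.val_one,
          one_mulVec]
      rw [herm_eq_zero_comm hF, hw, herm_sum_left]
      refine Finset.sum_eq_zero fun j _ => ?_
      rw [herm_smul_left]
      by_cases hj : j = 0
      · rw [hj, ← hlam, h0, mul_zero]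
      · rw [hoff j 0 hj, mul_zero]
    exact (Matrix.GeneralLinearGroup.det P).ne_zero
      (Matrix.det_eq_zero_of_column_eq_zero 0 fun r => congrFun this r)
  obtain ⟨s, hs⟩ := exists_norm_eq hF (t := lam⁻¹)
    (by rw [inv_pow, hlam, herm_self_fixed hF])
  have hs0 : s ≠ 0 := by
    rintro rfl
    simp at hs
    exact hlam0 hs.symm
  let S : GL (Fin 3) F := dia (fun _ => s) fun _ => hs0
  have hScomm : ∀ g : GL (Fin 3) F, S * g = g * S := fun g => by
    apply Units.ext
    rw [Units.val_mul, Units.val_mul, coe_dia, ← smul_one_eq_diagonal, Matrix.smul_mul,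
      Matrix.mul_smul, one_mul, mul_one]
  refine ⟨P * S, mem_GU_of_cols hF fun i j => ?_, ?_⟩
  · have e : ∀ i, (fun r => ((P * S : GL (Fin 3) F) : Matrix (Fin 3) (Fin 3) F) r i) = s • col i := by
      intro i
      ext r
      rw [Units.val_mul, coe_dia, Matrix.mul_diagonal]
      simp [hcol, mul_comm]
    rw [e, e, herm_smul_left, herm_smul_right hF, ← mul_assoc, ← pow_succ', hs]
    by_cases hij : i = j
    · subst hij
      rw [hdiag, inv_mul_cancel₀ hlam0, if_pos rfl]
    · rw [hoff i j hij, mul_zero, if_neg hij]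
  · rw [hP]
    ext g
    constructor
    · rintro ⟨u, hu, rfl⟩
      refine ⟨u, hu, ?_⟩
      show P * S * u * (P * S)⁻¹ = P * u * P⁻¹
      rw [mul_assoc P, hScomm]; group
    · rintro ⟨u, hu, rfl⟩
      refine ⟨u, hu, ?_⟩
      show P * u * P⁻¹ = P * S * u * (P * S)⁻¹
      rw [mul_assoc P S, hScomm]; group

end Cfsg.Agent.LinGrp12
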